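import Mathlib
import Groth.Agent.PicLib.FlatTriv
import Groth.Agent.CurveRR24.Vanish

/-!
# Injectivity of `Pic X ⟶ Pic X_{k'}`
-/

set_option autoImplicit false
set_option backward.isDefEq.respectTransparency.types false

universe u

open CategoryTheory Limits AlgebraicGeometry Opposite TopologicalSpace TensorProduct
open Groth.Agent.Coherent Groth.Agent.PicLib Groth.Agent.AmpleLib

namespace Groth.Agent.PicK8

attribute [local instance] Algebra.TensorProduct.rightAlgebra

theorem isTrivial_of_baseChange (k : Type u) [Field k] (X : Scheme.{u})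
    [X.Over (Spec (CommRingCat.of k))] [CompactSpace X] [QuasiSeparatedSpace X]
    (hfin : Module.Finite k (Coh.HH X (Coh.structureModule X) 0))
    (k' : Type u) [Field k'] [Algebra k k'] (X' : Scheme.{u}) (g : X' ⟶ X)
    (q : X' ⟶ Spec (CommRingCat.of k'))
    (hpb : IsPullback g q (X ↘ Spec (CommRingCat.of k)) (Spec.map (CommRingCat.ofHom (algebraMap k k'))))
    (L : X.Modules) (hL : PicF.IsInvertible L)
    (htriv : PicM.pull g (PicM.of hL) = 1) : Nonempty (L ≅ Coh.structureModule X) := by
  classical
  let A := Γ(X, ⊤)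
  let φk : k →+* A := Coh.toGlobal (X ↘ Spec (CommRingCat.of k))
  letI : Algebra k A := φk.toAlgebra
  let e1 : Coh.HH X (Coh.structureModule X) 0 ≃ₗ[k] A :=
    { ((CurveRR24.hhZero k (Coh.structureModule X)).toAddEquiv : _ ≃+ A) with
      map_smul' := fun c v => (CurveRR24.hhZero k (Coh.structureModule X)).map_smul c v }
  haveI : Module.Finite k A := Module.Finite.equiv e1
  haveI : IsArtinianRing A := IsArtinianRing.of_finite k A
  let S := Spec Γ(X, ⊤)
  haveI : DiscreteTopology S := inferInstanceAs (DiscreteTopology (PrimeSpectrum A))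
  haveI : Finite S := inferInstanceAs (Finite (PrimeSpectrum A))
  let π : X ⟶ S := X.toSpecΓ
  have hπ : Function.Bijective π.appTop := by
    rw [Scheme.toSpecΓ_appTop]
    exact ConcreteCategory.bijective_of_isIso _
  let B : CommRingCat.{u} := CommRingCat.of (A ⊗[k] k')
  let h : Spec B ⟶ S := Spec.map (CommRingCat.ofHom (algebraMap A (A ⊗[k] k')))
  haveI : Flat h := by
    rw [HasRingHomProperty.Spec_iff (P := @Flat)]
    exact RingHom.flat_algebraMap_iff.2 (inferInstance : Module.Flat A (A ⊗[k] k'))
  have hsurj : ∀ p : S, p ∈ Set.range h := fun p => by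
    haveI : Module.FaithfullyFlat A (A ⊗[k] k') := inferInstance
    exact PrimeSpectrum.comap_surjective_of_faithfullyFlat (B := A ⊗[k] k') p
  have hstr : π ≫ Spec.map (CommRingCat.ofHom (algebraMap k A)) = X ↘ Spec (CommRingCat.of k) := by
    refine ext_of_isAffine ?_
    rw [Scheme.Hom.comp_appTop, Scheme.toSpecΓ_appTop]
    erw [Scheme.ΓSpecIso_naturality]
    change (Scheme.ΓSpecIso (CommRingCat.of k)).hom ≫ (Scheme.ΓSpecIso (CommRingCat.of k)).inv ≫
      (X ↘ Spec (CommRingCat.of k)).appTop = _
    rw [Iso.hom_inv_id_assoc]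
  let σ : pullback π h ⟶ X' := hpb.lift (pullback.fst π h)
    (pullback.snd π h ≫ Spec.map (CommRingCat.ofHom
      (Algebra.TensorProduct.includeRight (R := k) (A := A) (B := k')).toRingHom)) (by
      rw [← hstr, pullback.condition_assoc, Category.assoc]
      simp only [h, B, S, ← Spec.map_comp, ← CommRingCat.ofHom_comp]
      congr 3
      ext r
      exact (Algebra.TensorProduct.tmul_one_eq_one_tmul r))
  have key := fun y : S => exists_gen_near π hπ hL (fun _ : Unit => B) (fun _ => h)
    (fun Z _ => isClosed_discrete Z) (fun p => ⟨(), hsurj p⟩)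
    (fun _ => by
      have hσ : σ ≫ g = pullback.fst π h := hpb.lift_fst _ _ _
      rw [← hσ, ← PicM.pull_pull, htriv, map_one]) y
  choose W m hyW hWm using key
  let O : S → X.Opens := fun y => π ⁻¹ᵁ ⟨{y}, isOpen_discrete _⟩
  have hO : ∀ y, O y ≤ glocus L (m y) := fun y a ha =>
    hWm y (show π a ∈ W y by rw [show π a = y from ha]; exact hyW y)
  have hcov : (⊤ : X.Opens) ≤ ⨆ y, O y := fun a _ => Opens.mem_iSup.2 ⟨π a, rfl⟩
  obtain ⟨s, hs, -⟩ := TopCat.Sheaf.existsUnique_gluing' ⟨L.presheaf, L.isSheaf⟩ O ⊤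
    (fun y => homOfLE le_top) hcov (fun y => resM L le_top (m y)) (fun y y' => by
      by_cases hyy : y = y'
      · subst hyy; rfl
      · have he : O y ⊓ O y' = ⊥ := by
          refine eq_bot_iff.2 fun a ha => ?_
          exact absurd ((show π a = y from ha.1).symm.trans (show π a = y' from ha.2)) hyy
        refine TopCat.Presheaf.section_ext ⟨L.presheaf, L.isSheaf⟩ _ _ _ fun a ha => ?_
        exact absurd (he ▸ ha : a ∈ (⊥ : X.Opens)) (fun h => h))
  have hgl : glocus L s = ⊤ := by
    refine top_le_iff.1 (hcov.trans (iSup_le fun y => ?_))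
    have h1 : IsGen L (O y) (resM L le_top (m y)) := (isGen_glocus (m y)).restrict (hO y) |> fun h => by
      simpa [resM_resM] using h
    have hs' : resM L (le_top : O y ≤ ⊤) s = resM L le_top (m y) := hs y
    exact (le_glocus_iff s _).2 (by rw [hs']; exact h1)
  have hgen : IsGen L ⊤ s := by
    have := isGen_glocus (L := L) s
    rw [hgl] at this
    simpa [resM_self] using this
  have : IsIso (unitDesc L s) := isIso_of_isGen _ (by rw [unitVal_unitDesc, resM_self]; exact hgen)
  exact ⟨(asIso (unitDesc L s)).symm⟩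

end Groth.Agent.PicK8
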